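import Groth.Agent.AbVar.K527.AbsFilt
import Mathlib.CategoryTheory.Adjunction.Basic
import Mathlib.CategoryTheory.Limits.Shapes.Biproducts
import Mathlib.CategoryTheory.Abelian.Basic
import Mathlib.LinearAlgebra.InvariantBasisNumber

/-!
# Semisimplicity by averaging

`F ⊣ G` with `F` exact, `W` a class of objects of `C` closed under kernels such that the unit `M ⟶ G F M` splits for
`M` in `W`.  If `E` in `W` has a finite filtration with graded pieces `Q`, `F Q ≅ O`, and `F E` is a retract of a finite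
power of `O`, then `E` is the direct sum of objects `Q` with `F Q ≅ O` (`decomp`).
-/

set_option autoImplicit false

universe v₁ v₂ u₁ u₂ w

open CategoryTheory CategoryTheory.Limits

namespace K81.Maschke

open K527.AbsFilt

variable {C : Type u₁} [Category.{v₁} C] [Abelian C] {D : Type u₂} [Category.{v₂} D] [Abelian D]

section Dec

variable {B : Type*} [Category B] [Preadditive B] {B' : Type*} [Category B'] [Preadditive B']

/-- `E` is the direct sum of the `Q j`. -/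
structure Dec {m : ℕ} (Q : Fin m → B) (E : B) where
  ι : ∀ j, Q j ⟶ E
  π : ∀ j, E ⟶ Q j
  ι_π_self : ∀ j, ι j ≫ π j = 𝟙 (Q j)
  ι_π_ne : ∀ i j, i ≠ j → ι i ≫ π j = 0
  sum : ∑ j, π j ≫ ι j = 𝟙 E

namespace Dec

/-- The image under an additive functor. -/
def map {m : ℕ} {Q : Fin m → B} {E : B} (d : Dec Q E) (T : B ⥤ B') [T.Additive] :
    Dec (fun j => T.obj (Q j)) (T.obj E) where
  ι j := T.map (d.ι j)
  π j := T.map (d.π j)
  ι_π_self j := by rw [← T.map_comp, d.ι_π_self, T.map_id]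
  ι_π_ne i j h := by rw [← T.map_comp, d.ι_π_ne i j h, T.map_zero]
  sum := by
    rw [← T.map_id, ← d.sum, T.map_sum]
    exact Finset.sum_congr rfl fun j _ => (T.map_comp _ _).symm

/-- Transport along an isomorphism. -/
def congr {m : ℕ} {Q : Fin m → B} {E E' : B} (d : Dec Q E) (e : E ≅ E') : Dec Q E' where
  ι j := d.ι j ≫ e.hom
  π j := e.inv ≫ d.π j
  ι_π_self j := by rw [Category.assoc, e.hom_inv_id_assoc, d.ι_π_self]
  ι_π_ne i j h := by rw [Category.assoc, e.hom_inv_id_assoc, d.ι_π_ne i j h]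
  sum := by
    have h1 : ∀ j, (e.inv ≫ d.π j) ≫ d.ι j ≫ e.hom = e.inv ≫ (d.π j ≫ d.ι j) ≫ e.hom := fun j => by
      simp only [Category.assoc]
    rw [Finset.sum_congr rfl fun j _ => h1 j, ← Preadditive.comp_sum, ← Preadditive.sum_comp, d.sum,
      Category.id_comp, e.inv_hom_id]

/-- Transport along isomorphisms of the summands. -/
def congrQ {m : ℕ} {Q Q' : Fin m → B} {E : B} (d : Dec Q E) (e : ∀ j, Q j ≅ Q' j) : Dec Q' E where
  ι j := (e j).inv ≫ d.ι j
  π j := d.π j ≫ (e j).hom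
  ι_π_self j := by
    rw [Category.assoc, ← Category.assoc (d.ι j), d.ι_π_self, Category.id_comp, (e j).inv_hom_id]
  ι_π_ne i j h := by
    rw [Category.assoc, ← Category.assoc (d.ι i), d.ι_π_ne i j h, zero_comp, comp_zero]
  sum := by
    rw [← d.sum]
    exact Finset.sum_congr rfl fun j _ => by rw [Category.assoc, (e j).hom_inv_id_assoc]

/-- The empty sum. -/
def zero {E : B} (h : IsZero E) : Dec (Fin.elim0 : Fin 0 → B) E where
  ι j := j.elim0
  π j := j.elim0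
  ι_π_self j := j.elim0
  ι_π_ne i := i.elim0
  sum := h.eq_of_src _ _

/-- Adding a summand. -/
def cons {m : ℕ} {Q : Fin m → B} {S : ShortComplex B} (s : S.Splitting) (d : Dec Q S.X₁) :
    Dec (Fin.cons S.X₃ Q : Fin (m + 1) → B) S.X₂ where
  ι j := Fin.cases (motive := fun j => (Fin.cons S.X₃ Q : Fin (m + 1) → B) j ⟶ S.X₂) s.s (fun j => d.ι j ≫ S.f) j
  π j := Fin.cases (motive := fun j => S.X₂ ⟶ (Fin.cons S.X₃ Q : Fin (m + 1) → B) j) S.g (fun j => s.r ≫ d.π j) j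
  ι_π_self j := by
    refine Fin.cases ?_ (fun j => ?_) j
    · exact s.s_g
    · change (d.ι j ≫ S.f) ≫ s.r ≫ d.π j = 𝟙 (Q j)
      rw [Category.assoc, ← Category.assoc S.f, s.f_r, Category.id_comp, d.ι_π_self]
  ι_π_ne i j := by
    refine Fin.cases ?_ (fun i => ?_) i <;> refine Fin.cases ?_ (fun j => ?_) j
    · exact fun h => absurd rfl h
    · intro _
      change s.s ≫ s.r ≫ d.π j = 0
      rw [← Category.assoc, s.s_r, zero_comp]
    · intro _
      change (d.ι i ≫ S.f) ≫ S.g = 0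
      rw [Category.assoc, S.zero, comp_zero]
    · intro h
      change (d.ι i ≫ S.f) ≫ s.r ≫ d.π j = 0
      rw [Category.assoc, ← Category.assoc S.f, s.f_r, Category.id_comp, d.ι_π_ne i j fun h' => h (h' ▸ rfl)]
  sum := by
    rw [Fin.sum_univ_succ]
    change S.g ≫ s.s + ∑ j, (s.r ≫ d.π j) ≫ d.ι j ≫ S.f = 𝟙 S.X₂
    have h1 : ∀ j, (s.r ≫ d.π j) ≫ d.ι j ≫ S.f = s.r ≫ (d.π j ≫ d.ι j) ≫ S.f := fun j => by
      simp only [Category.assoc]
    rw [Finset.sum_congr rfl fun j _ => h1 j, ← Preadditive.comp_sum, ← Preadditive.sum_comp, d.sum,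
      Category.id_comp, add_comm]
    exact s.id

end Dec

/-- Two decompositions into copies of `O` have the same number of summands. -/
theorem Dec.card_eq {O Z : B} {R : Type*} [CommRing R] [Nontrivial R] (τ : End O →+* R) {m n : ℕ}
    (d : Dec (fun _ : Fin m => O) Z) (d' : Dec (fun _ : Fin n => O) Z) : m = n := by
  classical
  let M1 : Matrix (Fin m) (Fin n) (End O) := fun i j => (d'.ι j ≫ d.π i : O ⟶ O)
  let M2 : Matrix (Fin n) (Fin m) (End O) := fun j i => (d.ι i ≫ d'.π j : O ⟶ O)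
  have h1 : M1 * M2 = 1 := by
    ext i k
    rw [Matrix.mul_apply]
    have h2 : ∀ j, M1 i j * M2 j k = (d.ι k ≫ (d'.π j ≫ d'.ι j) ≫ d.π i : O ⟶ O) := fun j => by
      change (d.ι k ≫ d'.π j) ≫ d'.ι j ≫ d.π i = _
      simp only [Category.assoc]
    rw [Finset.sum_congr rfl fun j _ => h2 j]
    have h3 : (∑ j, (d.ι k ≫ (d'.π j ≫ d'.ι j) ≫ d.π i : O ⟶ O)) = d.ι k ≫ d.π i := by
      rw [← Preadditive.comp_sum, ← Preadditive.sum_comp, d'.sum, Category.id_comp]
    refine h3.trans ?_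
    by_cases h : i = k
    · subst h
      rw [d.ι_π_self, Matrix.one_apply_eq]
      rfl
    · rw [d.ι_π_ne k i (Ne.symm h), Matrix.one_apply_ne h]
  have h1' : M2 * M1 = 1 := by
    ext i k
    rw [Matrix.mul_apply]
    have h2 : ∀ j, M2 i j * M1 j k = (d'.ι k ≫ (d.π j ≫ d.ι j) ≫ d'.π i : O ⟶ O) := fun j => by
      change (d'.ι k ≫ d.π j) ≫ d.ι j ≫ d'.π i = _
      simp only [Category.assoc]
    rw [Finset.sum_congr rfl fun j _ => h2 j]
    have h3 : (∑ j, (d'.ι k ≫ (d.π j ≫ d.ι j) ≫ d'.π i : O ⟶ O)) = d'.ι k ≫ d'.π i := by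
      rw [← Preadditive.comp_sum, ← Preadditive.sum_comp, d.sum, Category.id_comp]
    refine h3.trans ?_
    by_cases h : i = k
    · subst h
      rw [d'.ι_π_self, Matrix.one_apply_eq]
      rfl
    · rw [d'.ι_π_ne k i (Ne.symm h), Matrix.one_apply_ne h]
  have h4 : M1.map τ * M2.map τ = 1 := by rw [← Matrix.map_mul, h1, Matrix.map_one τ (map_zero _) (map_one _)]
  have h5 : M2.map τ * M1.map τ = 1 := by rw [← Matrix.map_mul, h1', Matrix.map_one τ (map_zero _) (map_one _)]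
  have := Matrix.square_of_invertible (M1.map τ) (M2.map τ) h4 h5
  simpa using this

/-- A finite coproduct is a direct sum. -/
theorem exists_dec_coproduct {J : Type*} [Finite J] (Q : J → B) [HasFiniteBiproducts B] [HasCoproduct Q]
    {n : ℕ} (hn : Nat.card J = n) :
    ∃ e : Fin n ≃ J, Nonempty (Dec (fun j => Q (e j)) (∐ Q)) := by
  subst hn
  let e : Fin (Nat.card J) ≃ J := (Finite.equivFin J).symm
  refine ⟨e, ⟨Dec.congr ?_ (biproduct.isoCoproduct (Q ∘ e) ≪≫ Sigma.reindex e Q)⟩⟩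
  exact
    { ι := fun j => biproduct.ι (Q ∘ e) j
      π := fun j => biproduct.π (Q ∘ e) j
      ι_π_self := fun j => biproduct.ι_π_self (Q ∘ e) j
      ι_π_ne := fun i j h => biproduct.ι_π_ne (Q ∘ e) h
      sum := biproduct.total (f := Q ∘ e) }

end Dec

/-- Retracts of finite powers of `O`. -/
def Ret (O Z : D) : Prop := ∃ (n : ℕ) (s : Fin n → (Z ⟶ O)) (r : Fin n → (O ⟶ Z)), ∑ i, s i ≫ r i = 𝟙 Z

theorem Ret.of_dec {O Z : D} {n : ℕ} {Q : Fin n → D} (d : Dec Q Z) (e : ∀ j, Q j ≅ O) : Ret O Z := by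
  refine ⟨n, fun j => d.π j ≫ (e j).hom, fun j => (e j).inv ≫ d.ι j, ?_⟩
  rw [← d.sum]
  exact Finset.sum_congr rfl fun j _ => by rw [Category.assoc, (e j).hom_inv_id_assoc]

/-- A retract of a retract of a power of `O`. -/
theorem Ret.of_retract {O Z Z' : D} (h : Ret O Z) (i : Z' ⟶ Z) (p : Z ⟶ Z') (hip : i ≫ p = 𝟙 Z') : Ret O Z' := by
  obtain ⟨n, s, r, hsr⟩ := h
  refine ⟨n, fun j => i ≫ s j, fun j => r j ≫ p, ?_⟩
  have h1 : i ≫ (∑ j, s j ≫ r j) ≫ p = 𝟙 Z' := by rw [hsr, Category.id_comp, hip]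
  rw [← h1, Preadditive.sum_comp, Preadditive.comp_sum]
  exact Finset.sum_congr rfl fun j _ => by simp only [Category.assoc]

/-- An epimorphism from a retract of a power of `O` onto `O` splits. -/
theorem Ret.exists_section {O Z Y : D} (h : Ret O Z) (hO : ¬ IsZero O) (hEnd : ∀ φ : O ⟶ O, φ = 0 ∨ IsIso φ)
    (e : Y ≅ O) (p : Z ⟶ Y) [Epi p] : ∃ σ : Y ⟶ Z, σ ≫ p = 𝟙 Y := by
  obtain ⟨n, s, r, hsr⟩ := h
  have h1 : ∃ i, IsIso (r i ≫ p ≫ e.hom) := by
    by_contra hcon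
    push Not at hcon
    have h2 : ∀ i, r i ≫ p ≫ e.hom = 0 := fun i => (hEnd _).resolve_right (hcon i)
    have h3 : p ≫ e.hom = 0 := by
      have h4 : (∑ i, s i ≫ r i) ≫ (p ≫ e.hom) = 0 := by
        rw [Preadditive.sum_comp]
        exact Finset.sum_eq_zero fun i _ => by rw [Category.assoc, h2, comp_zero]
      rwa [hsr, Category.id_comp] at h4
    have h5 : Epi (p ≫ e.hom) := epi_comp _ _
    apply hO
    rw [IsZero.iff_id_eq_zero, ← cancel_epi (p ≫ e.hom), h3, zero_comp, zero_comp]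
  obtain ⟨i, hi⟩ := h1
  refine ⟨e.hom ≫ inv (r i ≫ p ≫ e.hom) ≫ r i, ?_⟩
  rw [← cancel_mono e.hom]
  simp only [Category.assoc]
  rw [IsIso.inv_hom_id, Category.comp_id, Category.id_comp]

section Adj

variable {F : C ⥤ D} [F.Additive] [PreservesFiniteLimits F] [PreservesFiniteColimits F] {G : D ⥤ C} (adj : F ⊣ G)
  {O : D}

/-- **Decomposition.** -/
theorem decomp (hO : ¬ IsZero O) (hEnd : ∀ φ : O ⟶ O, φ = 0 ∨ IsIso φ) (W P : C → Prop)
    (hWi : ∀ {M N : C}, (M ≅ N) → W M → W N)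
    (hW : ∀ {M N : C} (φ : M ⟶ N), W M → W N → W (kernel φ))
    (hP : ∀ M, P M → W M ∧ Nonempty (F.obj M ≅ O))
    (hret : ∀ M, W M → ∃ r : G.obj (F.obj M) ⟶ M, adj.unit.app M ≫ r = 𝟙 M) {E : C}
    (hE : Filt P E) (hEW : W E) (hR : Ret O (F.obj E)) :
    ∃ (m : ℕ) (Q : Fin m → C), (∀ j, P (Q j)) ∧ Nonempty (Dec Q E) := by
  induction hE with
  | zero E h => exact ⟨0, Fin.elim0, fun j => j.elim0, ⟨Dec.zero h⟩⟩
  | ext S hS h1 h3 ih =>
    obtain ⟨h3W, ⟨e⟩⟩ := hP _ h3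
    have hmono := hS.mono_f
    have hepi := hS.epi_g
    have hX1 : W S.X₁ := hWi (hS.exact.fIsKernel.conePointUniqueUpToIso (kernelIsKernel S.g)).symm (hW S.g hEW h3W)
    have hFS : (S.map F).ShortExact := hS.map_of_exact F
    have hFg : Epi (F.map S.g) := hFS.epi_g
    obtain ⟨σ, hσ⟩ := hR.exists_section hO hEnd e (F.map S.g)
    let spl : (S.map F).Splitting := ShortComplex.Splitting.ofExactOfSection _ hFS.exact σ hσ hFS.mono_f
    obtain ⟨t, ht⟩ : ∃ t : F.obj S.X₂ ⟶ F.obj S.X₁, F.map S.f ≫ t = 𝟙 (F.obj S.X₁) := ⟨spl.r, spl.f_r⟩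
    obtain ⟨r, hr⟩ := hret S.X₁ hX1
    let ρ : S.X₂ ⟶ S.X₁ := adj.unit.app S.X₂ ≫ G.map t ≫ r
    have hρ : S.f ≫ ρ = 𝟙 S.X₁ := by
      have h6 : S.f ≫ adj.unit.app S.X₂ = adj.unit.app S.X₁ ≫ G.map (F.map S.f) := adj.unit.naturality S.f
      change S.f ≫ adj.unit.app S.X₂ ≫ G.map t ≫ r = _
      rw [← Category.assoc, h6, Category.assoc, ← Category.assoc (G.map _), ← G.map_comp, ht, G.map_id,
        Category.id_comp, hr]
    let spl' : S.Splitting := ShortComplex.Splitting.ofExactOfRetraction _ hS.exact ρ hρ hS.epi_g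
    have hR1 : Ret O (F.obj S.X₁) := hR.of_retract (F.map S.f) (F.map ρ) (by rw [← F.map_comp, hρ, F.map_id])
    obtain ⟨m, Q, hQ, ⟨d⟩⟩ := ih hX1 hR1
    refine ⟨m + 1, Fin.cons S.X₃ Q, ?_, ⟨Dec.cons spl' d⟩⟩
    intro j
    refine Fin.cases ?_ (fun j => ?_) j
    · exact h3
    · exact hQ j

end Adj

end K81.Maschke
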