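import Groth.Agent.AbVar.K81.Maschke
import Groth.Agent.VarietyA.HLin
import Groth.Agent.Fga.HodgeSec

/-!
# Cohomology of a direct sum
-/

set_option autoImplicit false
universe u

open CategoryTheory CategoryTheory.Limits AlgebraicGeometry

namespace K81.HSum

open Groth.Agent Groth.Agent.VarietyA.HLin K81.Maschke

/-- The dimension of a direct sum. -/
theorem finrank_sum {k V : Type*} [Field k] [AddCommGroup V] [Module k V] {m : ℕ} (W : Fin m → Type*)
    [∀ j, AddCommGroup (W j)] [∀ j, Module k (W j)] [∀ j, Module.Finite k (W j)] (π : ∀ j, V →ₗ[k] W j)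
    (ι : ∀ j, W j →ₗ[k] V) (h1 : ∀ j x, π j (ι j x) = x) (h2 : ∀ i j, i ≠ j → ∀ x, π j (ι i x) = 0)
    (h3 : ∀ x, ∑ j, ι j (π j x) = x) : Module.finrank k V = ∑ j, Module.finrank k (W j) := by
  let e : V ≃ₗ[k] (∀ j, W j) := LinearEquiv.ofLinearMap (LinearMap.pi π) (∑ j, ι j ∘ₗ LinearMap.proj j)
    (by
      refine LinearMap.ext fun x => funext fun i => ?_
      rw [LinearMap.comp_apply, LinearMap.pi_apply, LinearMap.sum_apply, map_sum, Finset.sum_eq_single i]
      · exact h1 i (x i)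
      · exact fun j _ hj => h2 j i hj (x j)
      · simp)
    (by
      refine LinearMap.ext fun x => ?_
      rw [LinearMap.comp_apply, LinearMap.sum_apply]
      exact h3 x)
  rw [e.finrank_eq, Module.finrank_pi_fintype]

variable (k : Type u) [Field k] {X : Scheme.{u}} [X.Over (Spec (CommRingCat.of k))]

theorem finrank_dec {m : ℕ} {Q : Fin m → X.Modules} {E : X.Modules} (d : Dec Q E) (n : ℕ)
    (hf : ∀ j, Module.Finite k (Coh.HH X (Q j) n)) :
    Module.finrank k (Coh.HH X E n) = ∑ j, Module.finrank k (Coh.HH X (Q j) n) := by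
  refine finrank_sum (fun j => Coh.HH X (Q j) n) (fun j => hmapₗ k (d.π j) n) (fun j => hmapₗ k (d.ι j) n) ?_ ?_ ?_
  · intro j x
    refine (CohqB.HSeqMod.hmap_comp_apply (d.ι j) (d.π j) n x).symm.trans ?_
    rw [d.ι_π_self]
    exact CohqB.HSeqMod.hmap_id_apply n x
  · intro i j hij x
    refine (CohqB.HSeqMod.hmap_comp_apply (d.ι i) (d.π j) n x).symm.trans ?_
    rw [d.ι_π_ne i j hij]
    exact CohqB.HSeqMod.hmap_zero_apply n x
  · intro x
    have h1 : ∀ j, hmapₗ k (d.ι j) n (hmapₗ k (d.π j) n x) = CohqB.HSeqMod.hmap (d.π j ≫ d.ι j) n x :=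
      fun j => (CohqB.HSeqMod.hmap_comp_apply _ _ _ _).symm
    refine (Finset.sum_congr rfl fun j _ => h1 j).trans ?_
    refine (CohqB.HSeqMod.hmap_sum_apply Finset.univ (fun j => d.π j ≫ d.ι j) n x).symm.trans ?_
    rw [d.sum]
    exact CohqB.HSeqMod.hmap_id_apply n x

end K81.HSum
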