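import Groth.Agent.AbVar.K511.TrSplit
import Groth.Agent.AbVar.K527.ProjAff
import Groth.Agent.AbVar.K526.Cut

/-!
# The unit `M ⟶ f_* f^* M` splits for `f` finite étale of degree invertible on the base

`projU f M : M ⊗ f_* O ≅ f_* f^* M` for `f` affine and `M` quasi-coherent; `exists_retraction`.
-/

set_option autoImplicit false
universe u

open CategoryTheory CategoryTheory.Limits AlgebraicGeometry Opposite TopologicalSpace
open Groth.Agent Groth.Agent.Ega2.Tens

namespace K81.Retr

open VarietyB.ProjForm K511.TrSplit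

variable {X Y : Scheme.{u}} (f : X ⟶ Y)

section Aff

variable [IsAffineHom f] (M : Y.Modules) (hM : Coh.IsQCoh M)

/-- `M ⊗ f_* O ≅ f_* f^* M`. -/
noncomputable def projU : CohB1.tensorMod M ((Scheme.Modules.pushforward f).obj (Coh.structureModule X)) ≅
    (Scheme.Modules.pushforward f).obj ((Scheme.Modules.pullback f).obj M) :=
  K527.ProjAff.projIso f M (Coh.structureModule X) hM (Fdesc.StructMod.isQCoh_structureModule X) ≪≫
    (Scheme.Modules.pushforward f).mapIso (runit _)

theorem tm_unitMor : K526.Cut.tm M (unitMor f) ≫ (projU f M hM).hom =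
    (runit M).hom ≫ (Scheme.Modules.pullbackPushforwardAdjunction f).unit.app M := by
  rw [K526.Cut.tm_eq]
  refine hom_ext _ _ fun U m (r : Γ(Y, U)) => ?_
  have h1 : (mapT (𝟙 M) (unitMor f)).app U (tmul m (sm r)) = tmul m ((unitMor f).app U (sm r)) :=
    mapT_tmul _ _ _ _
  have h2 := VarietyB.ProjForm.projMor_tmul f M (Coh.structureModule X) m
    (sm (f.app U r) : Γ(Coh.structureModule X, f ⁻¹ᵁ U))
  have h3 : (runit ((Scheme.Modules.pullback f).obj M)).hom.app (f ⁻¹ᵁ U)
      (tmul (Fdesc.LocGen.pullSec f m) (sm (f.app U r))) = f.app U r • Fdesc.LocGen.pullSec f m :=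
    runit_hom_tmul _ _
  have h4 : (runit M).hom.app U (tmul m (sm r)) = r • m := runit_hom_tmul _ _
  have h5 := Fdesc.LocGen.pullSec_smul f r m
  have h6 : (mapT (𝟙 M) (unitMor f) ≫ (projU f M hM).hom).app U
      (tmul m (sm r)) = (runit ((Scheme.Modules.pullback f).obj M)).hom.app (f ⁻¹ᵁ U)
        ((VarietyB.ProjForm.projMor f M (Coh.structureModule X)).app U
          ((mapT (𝟙 M) (unitMor f)).app U (tmul m (sm r)))) := rfl
  change (mapT (𝟙 M) (unitMor f) ≫ (projU f M hM).hom).app U (tmul m (sm r)) = _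
  rw [h6, h1]
  refine (congrArg _ h2).trans (h3.trans (h5.symm.trans ?_))
  exact (congrArg (((Scheme.Modules.pullbackPushforwardAdjunction f).unit.app M).app U) h4).symm

end Aff

/-- Multiplication by an integer which is invertible on the scheme. -/
theorem isIso_nsmul {Y : Scheme.{u}} (M : Y.Modules) (N : ℕ) (hN : IsUnit (N : Γ(Y, ⊤))) : IsIso (N • 𝟙 M) := by
  refine isIso_of_local _ fun y => ⟨⊤, trivial, fun V _ => ?_⟩
  have h1 : ∀ m : Γ(M, V), (N • 𝟙 M : M ⟶ M).app V m = (N : Γ(Y, V)) • m := by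
    intro m
    refine (nsmul_app _ N V m).trans ?_
    rw [Nat.cast_smul_eq_nsmul]
    rfl
  have h2 : IsUnit (N : Γ(Y, V)) := by
    have := hN.map (Y.presheaf.map (homOfLE (le_top : V ≤ ⊤)).op).hom
    rwa [map_natCast] at this
  have h3 : ((N • 𝟙 M : M ⟶ M).app V : Γ(M, V) → Γ(M, V)) = fun m => (N : Γ(Y, V)) • m := funext h1
  rw [h3]
  obtain ⟨u, hu⟩ := h2
  rw [← hu]
  exact MulAction.bijective (α := Γ(Y, V)ˣ) (β := Γ(M, V)) u

theorem exists_retraction [IsFinite f] [Etale f] {N : ℕ} (hN : ∀ y : Y, f.finrank y = N)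
    (hN' : IsUnit (N : Γ(Y, ⊤))) (M : Y.Modules) (hM : Coh.IsQCoh M) :
    ∃ r : (Scheme.Modules.pushforward f).obj ((Scheme.Modules.pullback f).obj M) ⟶ M,
      (Scheme.Modules.pullbackPushforwardAdjunction f).unit.app M ≫ r = 𝟙 M := by
  have h1 : (Scheme.Modules.pullbackPushforwardAdjunction f).unit.app M ≫ (projU f M hM).inv ≫
      K526.Cut.tm M (trMor f) ≫ (runit M).hom = N • 𝟙 M := by
    rw [← cancel_epi (runit M).hom, ← Category.assoc (runit M).hom, ← tm_unitMor f M hM]
    simp only [Category.assoc, Iso.hom_inv_id_assoc]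
    have h2 : K526.Cut.tm M (unitMor f) ≫ K526.Cut.tm M (trMor f) = N • 𝟙 _ :=
      ((DCoh.tensorBi.obj M).map_comp (unitMor f) (trMor f)).symm.trans
        ((congrArg (DCoh.tensorBi.obj M).map (unitMor_trMor f hN)).trans
          ((Functor.map_nsmul (F := DCoh.tensorBi.obj M)).trans (congrArg (N • ·) ((DCoh.tensorBi.obj M).map_id _))))
    rw [← Category.assoc, h2, Preadditive.nsmul_comp, Preadditive.comp_nsmul, Category.id_comp, Category.comp_id]
  have h3 := isIso_nsmul M N hN'
  refine ⟨((projU f M hM).inv ≫ K526.Cut.tm M (trMor f) ≫ (runit M).hom) ≫ inv (N • 𝟙 M), ?_⟩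
  rw [← Category.assoc, h1, IsIso.hom_inv_id]
  rfl

end K81.Retr
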