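import Groth.Agent.AbVar.K81.HSum
import Groth.Agent.AbVar.K81.Retr
import Groth.Agent.AbVar.K527.AVIso
import Groth.Agent.AbVar.K526.Inst
import Groth.Agent.AbVar.K512.IsogSplit

/-!
# `[b]_* O_A` is a direct sum of `b^{2g}` translation invariant invertible modules (characteristic zero)

`k` algebraically closed of characteristic zero, `A` an abelian variety of dimension `g`:
* `exists_dec`: `[b]_* O_A = ⨁ M_j`, `j = 1, …, b^{2g}`, `M_j` in `Pic⁰(A)`, `[b]^* M_j = O_A`;
* `exists_split`: `h^i([b]^* c) = ∑_j h^i(M_j ⊗ c)`;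
* `hgmul`: `h^i_gen([b]^* c) = b^{2g} h^i_gen(c)`.
-/

set_option autoImplicit false
universe u
open CategoryTheory CategoryTheory.Limits MonoidalCategory CartesianMonoidalCategory AlgebraicGeometry
open scoped MonObj
open Groth.Agent Groth.Agent.Fga.PicMon Groth.Agent.Fga Groth.Agent.Pic13.H11.Cls Groth.Agent.Pic13.H11.NumU
  Groth.Agent.Grpsch.PicGrp Groth.Agent.Grpsch.Cube

namespace K81.Split

open K526 K526.Cut K526.PullM K518.Phi K526.Core K526.Inst K81.Maschke

variable {k : Type u} [Field k] {A : Over (Spec (CommRingCat.of k))} [GrpObj A] [IsProper A.hom]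
  [GeometricallyIntegral A.hom]

section Fin

variable {B : Over (Spec (CommRingCat.of k))} [GrpObj B] [IsProper B.hom] [GeometricallyIntegral B.hom]

omit [GrpObj B] in
theorem bij_app : Function.Bijective (B.hom.app ⊤) := by
  have := Grpsch.CubeData.isIso_app B.hom ⊤
  exact ConcreteCategory.bijective_of_isIso _

omit [GrpObj B] in
/-- Endomorphisms of `O_B` are zero or invertible. -/
theorem end_zero_or_iso (φ : Coh.structureModule B.left ⟶ Coh.structureModule B.left) : φ = 0 ∨ IsIso φ := by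
  let τ : k →+* Γ(B.left, ⊤) := (B.hom.app ⊤).hom.comp (Scheme.ΓSpecIso (CommRingCat.of k)).inv.hom
  have hτ : Function.Bijective τ := (bij_app (B := B)).comp
    (Scheme.ΓSpecIso (CommRingCat.of k)).symm.commRingCatIsoToRingEquiv.bijective
  obtain ⟨c, rfl⟩ := K527.IsogFilt.mulRing_bijective.2 φ
  obtain ⟨a, rfl⟩ := hτ.2 c
  by_cases ha : a = 0
  · left
    subst ha
    rw [map_zero, map_zero]
  · right
    have h1 : IsUnit (K527.IsogFilt.mulRing (τ a)) := ((IsUnit.mk0 a ha).map τ).map _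
    exact (isUnit_iff_isIso _).1 h1

end Fin

variable [IsAlgClosed k] [CharZero k]

omit [IsAlgClosed k] in
theorem etale_nn {b : ℕ} (hb : 1 ≤ b) : Etale (nn A b).left := by
  have h1 : ((b : ℤ) : k) ≠ 0 := by
    rw [Int.cast_natCast]
    exact_mod_cast (by omega : b ≠ 0)
  have := Grpsch.AbBC.etale_zpow A h1
  rwa [zpow_natCast] at this

omit [IsAlgClosed k] [GrpObj A] [IsProper A.hom] [GeometricallyIntegral A.hom] in
theorem isUnit_natCast {N : ℕ} (hN : N ≠ 0) : IsUnit (N : Γ(A.left, ⊤)) := by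
  let τ : k →+* Γ(A.left, ⊤) := (A.hom.app ⊤).hom.comp (Scheme.ΓSpecIso (CommRingCat.of k)).inv.hom
  have h1 : IsUnit (N : k) := IsUnit.mk0 _ (by exact_mod_cast hN)
  have h2 := h1.map τ
  rwa [map_natCast] at h2

omit [CharZero k] [IsProper A.hom] [GeometricallyIntegral A.hom] [IsAlgClosed k] [GrpObj A] in
/-- The translates of the structure module. -/
theorem nonempty_pullback_unit {B : Over (Spec (CommRingCat.of k))} (t : A ⟶ B) :
    Nonempty ((Scheme.Modules.pullback t.left).obj (Coh.structureModule B.left) ≅ Coh.structureModule A.left) :=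
  ⟨Krr.H482.PullTens.pullUnitIso t.left⟩

/-- `[b]^* [b]_* O` is the sum of `b^{2g}` copies of `O`. -/
theorem exists_dec_pull {g : ℕ} (hdim : topologicalKrullDim A.left = g) {b : ℕ} (hb : 1 ≤ b) :
    Nonempty (Dec (fun _ : Fin (b ^ (2 * g)) => Coh.structureModule A.left)
      ((Scheme.Modules.pullback (nn A b).left).obj
        ((Scheme.Modules.pushforward (nn A b).left).obj (Coh.structureModule A.left)))) := by
  have hc : IsCommMonObj A := isCommMonObj_of_isProper_of_geometricallyIntegral A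
  have hm : IsMonHom (nn A b) := Grpsch.KerMul.isMonHom_id_pow b
  have hfin : IsFinite (nn A b).left := (Grpsch.MulFinFlat.isFinite_flat_surjective k A b hb).1
  have hq : (Coh.structureModule A.left).IsQuasicoherent := Fdesc.StructMod.isQCoh_structureModule A.left
  obtain ⟨e⟩ := K512.IsogSplit.nonempty_iso (nn A b) (Coh.structureModule A.left)
  have hb0 : (b : k) ≠ 0 := by exact_mod_cast (by omega : b ≠ 0)
  have h1 := Etcore.AbTors.card_torsion A g hdim b hb0
  have h2 : Nat.card {a : 𝟙_ (Over (Spec (CommRingCat.of k))) ⟶ A // a ≫ nn A b = 1} = b ^ (2 * g) := by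
    rw [← h1]
    refine Nat.card_congr (Equiv.subtypeEquivRight fun x => ?_)
    rw [nn, MonObj.comp_pow, Category.comp_id]
  have hJ : Finite {a : 𝟙_ (Over (Spec (CommRingCat.of k))) ⟶ A // a ≫ nn A b = 1} := by
    refine Nat.finite_of_card_ne_zero ?_
    rw [h2]
    exact pow_ne_zero _ (by omega)
  have hbi : HasFiniteBiproducts A.left.Modules := Abelian.hasFiniteBiproducts
  obtain ⟨ε, ⟨d⟩⟩ := exists_dec_coproduct
    (fun a : {a : 𝟙_ (Over (Spec (CommRingCat.of k))) ⟶ A // a ≫ nn A b = 1} =>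
      (Scheme.Modules.pullback (𝟙 A * (toUnit A ≫ a.1)).left).obj (Coh.structureModule A.left)) h2
  exact ⟨(d.congr e.symm).congrQ fun j => (nonempty_pullback_unit _).some⟩

/-- `[b]_* O` is the sum of `b^{2g}` translation invariant invertible modules. -/
theorem exists_dec {g : ℕ} (hdim : topologicalKrullDim A.left = g) {b : ℕ} (hb : 1 ≤ b) :
    ∃ (M : Fin (b ^ (2 * g)) → A.left.Modules) (hM : ∀ j, PicF.IsInvertible (M j)),
      (∀ j, mk (M j) (hM j) ∈ Inv A) ∧ (∀ j, pull (nn A b).left (mk (M j) (hM j)) = 1) ∧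
      Nonempty (Dec M ((Scheme.Modules.pushforward (nn A b).left).obj (Coh.structureModule A.left))) := by
  have hc : IsCommMonObj A := isCommMonObj_of_isProper_of_geometricallyIntegral A
  have hm : IsMonHom (nn A b) := Grpsch.KerMul.isMonHom_id_pow b
  have hfin : IsFinite (nn A b).left := (Grpsch.MulFinFlat.isFinite_flat_surjective k A b hb).1
  have hflat : Flat (nn A b).left := (Grpsch.MulFinFlat.isFinite_flat_surjective k A b hb).2.1
  have hsurj : Surjective (nn A b).left := (Grpsch.MulFinFlat.isFinite_flat_surjective k A b hb).2.2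
  have het : Etale (nn A b).left := etale_nn hb
  have hrk : ∀ y, (nn A b).left.finrank y = b ^ (2 * g) := (Groth.Agent.S1842.pos_case k A g hdim b hb).2.2
  have hN0 : b ^ (2 * g) ≠ 0 := pow_ne_zero _ (by omega)
  have hO : ¬ IsZero (Coh.structureModule A.left) := fun h =>
    K527.AVIso.not_isZero (nn A b) (Functor.map_isZero (Scheme.Modules.pushforward (nn A b).left) h)
  obtain ⟨d0⟩ := exists_dec_pull hdim hb
  have hadd : (Scheme.Modules.pullback (nn A b).left).Additive := inferInstance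
  have hF : PreservesFiniteLimits (Scheme.Modules.pullback (nn A b).left) :=
    Groth.Agent.PerfC.FlatExact.preservesFiniteLimits_pullback (nn A b).left
  have hF' : PreservesFiniteColimits (Scheme.Modules.pullback (nn A b).left) := by
    have : PreservesColimitsOfSize.{0, 0} (Scheme.Modules.pullback (nn A b).left) :=
      (Scheme.Modules.pullbackPushforwardAdjunction (nn A b).left).leftAdjoint_preservesColimits
    infer_instance
  have hQ : Coh.IsQCoh (Coh.structureModule A.left) := Fdesc.StructMod.isQCoh_structureModule A.left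
  obtain ⟨m, Q, hPQ, ⟨d⟩⟩ := decomp (Scheme.Modules.pullbackPushforwardAdjunction (nn A b).left)
    (O := Coh.structureModule A.left) hO end_zero_or_iso Coh.IsQCoh
    (fun M => ∃ (hM : PicF.IsInvertible M), mk M hM ∈ ((pull (nn A b).left).ker : Set (Pic A.left)))
    (fun e h => Sga67.CohBasic.isQCoh_of_iso e h) (fun φ h1 h2 => PerfA.QCohSerre.isQCoh_kernel φ h1 h2)
    (fun M hM => by
      obtain ⟨h1, h2⟩ := hM
      refine ⟨Ega2.QCohLocal.isQCoh_of_isInvertible h1, ?_⟩
      rw [SetLike.mem_coe, MonoidHom.mem_ker, pull_mk, mk_eq_one_iff] at h2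
      exact h2)
    (fun M hM => Retr.exists_retraction (nn A b).left hrk (isUnit_natCast hN0) M hM)
    (K527.AVIso.inF_of_flat (nn A b)) (Ega1.QcqsPush.isQCoh_pushforward (nn A b).left _ hQ)
    (Ret.of_dec d0 fun _ => Iso.refl _)
  choose hM hM' using hPQ
  have hτ := K527.IsogFilt.mulRing_bijective (B := A.left)
  let τ : End (Coh.structureModule A.left) →+* Γ(A.left, ⊤) := (RingEquiv.ofBijective _ hτ).symm.toRingHom
  have hnt : Nontrivial Γ(A.left, ⊤) := inferInstance
  obtain rfl : m = b ^ (2 * g) := by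
    refine Dec.card_eq τ ((d.map (Scheme.Modules.pullback (nn A b).left)).congrQ fun j => ?_) d0
    have h2 := hM' j
    rw [SetLike.mem_coe, MonoidHom.mem_ker, pull_mk, mk_eq_one_iff] at h2
    exact h2.some
  exact ⟨Q, hM, fun j => K527.AVIso.ker_le (nn A b) (hM' j), fun j => hM' j, ⟨d⟩⟩

/-- **Splitting**: `h^i([b]^* c) = ∑_j h^i(M_j ⊗ c)`. -/
theorem exists_split {g : ℕ} (hdim : topologicalKrullDim A.left = g) (b : ℕ) (hb : 1 ≤ b) :
    ∃ M : Fin (b ^ (2 * g)) → (MC A.left)ˣ, (∀ j, M j ∈ P0 A) ∧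
      ∀ c : MC A.left, Co c → ∀ i, h k i (pm (nn A b).left c) = ∑ j, h k i (M j • c) := by
  obtain ⟨M, hM, hInv, -, ⟨d⟩⟩ := exists_dec hdim hb
  have hfin : IsFinite (nn A b).left := (Grpsch.MulFinFlat.isFinite_flat_surjective k A b hb).1
  refine ⟨fun j => toU (mk (M j) (hM j)), fun j => toU_mem_P0 (hInv j), fun c hc i => ?_⟩
  induction c using MC.ind with | h F => ?_
  have hF : Coh.IsQCoh F := hc.1
  have hF' : Coh.IsQCoh ((Scheme.Modules.pullback (nn A b).left).obj F) :=
    VarietyB.PullSec.isQCoh_pullback (nn A b).left F hF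
  obtain ⟨e1⟩ := VarietyB.HHPush.exists_linearEquiv (nn A b).left k (Over.w (nn A b))
    ((Scheme.Modules.pullback (nn A b).left).obj F) hF' i
  have e2 := Retr.projU (nn A b).left F hF
  let T : A.left.Modules ⥤ A.left.Modules := DCoh.tensorBi.obj F
  have hadd : T.Additive := inferInstance
  have d1 : Dec (fun j => CohB1.tensorMod F (M j))
      ((Scheme.Modules.pushforward (nn A b).left).obj ((Scheme.Modules.pullback (nn A b).left).obj F)) :=
    (d.map T).congr e2
  have hco : ∀ j, Coh.IsCoh (CohB1.tensorMod F (M j)) := fun j => TwistCoh.isCoh_tensor hc (hM j)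
  have h1 := HSum.finrank_dec k d1 i fun j => HodgeSec.finite_HH' k (hco j) i
  rw [pm_mc, h_mc]
  refine (e1.finrank_eq.symm.trans h1).trans (Finset.sum_congr rfl fun j _ => ?_)
  rw [smul_def, toU_mk_val, mul_comm, ← mc_tensor, h_mc]

/-- `h^i_gen([b]^* c) = b^{2g} h^i_gen(c)`. -/
theorem hgmul {g : ℕ} (hdim : topologicalKrullDim A.left = g) {ℓ : Pic A.left} (hs : Surj ℓ) (b : ℕ) (hb : 1 ≤ b)
    (c : MC A.left) (hc : Co c) (i : ℕ) :
    hg k (P0 A) i (pm (nn A b).left c) = b ^ (2 * g) * hg k (P0 A) i c := by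
  obtain ⟨M, hM, hsum⟩ := exists_split hdim b hb
  have hpm : ∀ α ∈ Inv A, pm (nn A b).left (toU α • c) = toU (α ^ b) • pm (nn A b).left c := fun α hα => by
    rw [pm_toU_smul, pl_nn_inv hα]
  have hkey : ∀ α ∈ Inv A, h k i (toU (α ^ b) • pm (nn A b).left c) = ∑ j, h k i (M j • toU α • c) := fun α hα => by
    rw [← hpm α hα]
    exact hsum _ (hc.smul _) i
  apply le_antisymm
  · obtain ⟨u, ⟨α, hα, rfl⟩, h1⟩ := exists_gen hs (List.ofFn fun j => (i, M j • c)) (by
      intro x hx
      obtain ⟨j, rfl⟩ := List.mem_ofFn.1 hx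
      exact hc.smul _)
    calc hg k (P0 A) i (pm (nn A b).left c) ≤ h k i (toU (α ^ b) • pm (nn A b).left c) :=
          hg_le k _ i _ (toU_mem_P0 (Subgroup.pow_mem _ hα b))
      _ = ∑ j, h k i (M j • toU α • c) := hkey α hα
      _ = ∑ j : Fin (b ^ (2 * g)), hg k (P0 A) i c := by
        refine Finset.sum_congr rfl fun j _ => ?_
        have h2 := h1 (i, M j • c) (List.mem_ofFn.2 ⟨j, rfl⟩)
        rw [smul_comm]
        exact h2.trans (hg_smul k _ i c (hM j))
      _ = b ^ (2 * g) * hg k (P0 A) i c := by simp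
  · obtain ⟨u, ⟨β, hβ, rfl⟩, h1⟩ := exists_hg k (P0 A) i (pm (nn A b).left c)
    obtain ⟨y, rfl⟩ := hs b hb β hβ
    rw [← h1, hkey (phi ℓ y) (phi_mem_Inv ℓ y)]
    calc b ^ (2 * g) * hg k (P0 A) i c = ∑ j : Fin (b ^ (2 * g)), hg k (P0 A) i c := by simp
      _ ≤ ∑ j, h k i (M j • toU (phi ℓ y) • c) := Finset.sum_le_sum fun j _ => by
        rw [smul_smul]
        exact hg_le k _ i c (Subgroup.mul_mem _ (hM j) (toU_mem_P0 (phi_mem_Inv ℓ y)))

end K81.Split
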